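import Groth.Agent.L05.Henselization.StrictUniq
import Mathlib.RingTheory.Smooth.IntegralClosure
import Mathlib.RingTheory.Etale.Descent
import Mathlib.RingTheory.Etale.Field
import Mathlib.RingTheory.Etale.Pi
import Mathlib.RingTheory.Finiteness.Descent
import Mathlib.RingTheory.Localization.Integral
import Mathlib.RingTheory.LocalRing.ResidueField.Basic

/-! Etale algebras over the fraction field split by a strict henselization are unramified. -/

set_option autoImplicit false
set_option linter.style.haveILetI false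
set_option backward.isDefEq.respectTransparency.types false

universe u

open TensorProduct IsLocalRing

namespace Groth.L27.SplitStrict

variable {A : Type u} [CommRing A] [IsDomain A] [IsLocalRing A] [IsIntegrallyClosed A]
  {K : Type u} [Field K] [Algebra A K] [IsFractionRing A K]

theorem tmul_injective (S : Type u) [CommRing S] [Algebra A S] [Module.Flat A S] :
    Function.Injective (fun s : S => s ⊗ₜ[A] (1 : K)) := by
  have h := Module.Flat.lTensor_preserves_injective_linearMap (M := S) (Algebra.linearMap A K)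
    (IsFractionRing.injective A K)
  intro a b hab
  refine (TensorProduct.rid A S).symm.injective ?_
  apply h
  simpa using hab

theorem exists_tmul_of_isIntegral (S : Type u) [CommRing S] [Algebra A S] [Algebra.Smooth A S]
    {z : S ⊗[A] K} (hz : IsIntegral S z) : ∃ s : S, s ⊗ₜ[A] (1 : K) = z := by
  obtain ⟨w, hw⟩ := (TensorProduct.toIntegralClosure_bijective_of_smooth (R := A) (S := S) (B := K)).2 ⟨z, hz⟩
  have h1 : (Algebra.TensorProduct.map (AlgHom.id S S) (integralClosure A K).val) w = z := congrArg Subtype.val hw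
  rw [← h1]
  clear h1 hw hz
  induction w with
  | zero => exact ⟨0, by simp⟩
  | add a b ha hb =>
    obtain ⟨s, hs⟩ := ha
    obtain ⟨t, ht⟩ := hb
    exact ⟨s + t, by rw [map_add, ← hs, ← ht, add_tmul]⟩
  | tmul a v =>
    obtain ⟨v, hv⟩ := v
    rw [IsIntegrallyClosed.integralClosure_eq_bot A K, Algebra.mem_bot] at hv
    obtain ⟨r, rfl⟩ := hv
    exact ⟨r • a, by simp [smul_tmul, Algebra.algebraMap_eq_smul_one]⟩

/-- an etale faithfully flat algebra whose generic fibre lands injectively and catches a finite set -/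
theorem exists_stage (R L : Type u) [CommRing R] [IsLocalRing R] [Algebra A R] [IsLocalHom (algebraMap A R)]
    [Hensel.IsStrictHenselization A R] [Field L] [Algebra R L] [IsFractionRing R L] [Algebra K L] [Algebra A L]
    [IsScalarTower A K L] [IsScalarTower A R L] (s : Finset R) :
    ∃ (A' : Type u) (_ : CommRing A') (_ : Algebra A A') (_ : Algebra.Etale A A') (_ : Module.FaithfullyFlat A A')
      (θ : A' ⊗[A] K →ₐ[A] L), Function.Injective θ ∧ ∀ r ∈ s, algebraMap R L r ∈ θ.range ∧
        ∀ k : K, θ (1 ⊗ₜ k) = algebraMap K L k := by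
  classical
  haveI : IsDomain R := (IsFractionRing.injective R L).isDomain _
  obtain ⟨e⟩ := Groth.L05.Henselization.strictHenselization_algEquiv A R
  obtain ⟨X, hX⟩ := Groth.L05.Henselization.exists_lift_finset (A := A) (K := ResidueField R) (s.image e.symm)
  let E := X.R
  let φR : E →ₐ[A] R := e.toAlgHom.comp (Groth.L05.Henselization.ι X)
  have hcatch : ∀ r ∈ s, ∃ a : E, φR a = r := fun r hr => by
    obtain ⟨a, ha⟩ := hX _ (Finset.mem_image_of_mem _ hr)
    exact ⟨a, (congrArg e ha).trans (e.apply_symm_apply r)⟩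
  let κ : K →ₐ[A] L := IsScalarTower.toAlgHom A K L
  let j : R →ₐ[A] L := IsScalarTower.toAlgHom A R L
  let θ₀ : E ⊗[A] K →ₐ[A] L := Algebra.TensorProduct.lift (j.comp φR) κ fun _ _ => Commute.all _ _
  -- the idempotent cutting out the component
  let P := E ⊗[A] K
  letI : Algebra K P := Algebra.TensorProduct.rightAlgebra
  haveI : Algebra.Etale K (K ⊗[A] E) := inferInstance
  have ec : K ⊗[A] E ≃ₐ[K] P := AlgEquiv.ofRingEquiv (f := (Algebra.TensorProduct.comm A K E).toRingEquiv) fun k => by
    show Algebra.TensorProduct.comm A K E (k ⊗ₜ[A] (1 : E)) = (1 : E) ⊗ₜ[A] k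
    rfl
  haveI : Algebra.Etale K P := Algebra.Etale.of_equiv (R := K) (A := K ⊗[A] E) (B := E ⊗[A] K) ec
  obtain ⟨ι, hι, F, _, _, q, -⟩ := (Algebra.Etale.iff_exists_algEquiv_prod (K := K) (A := P)).1 inferInstance
  haveI := hι
  cases nonempty_fintype ι
  have hsum : ∑ i, θ₀ (q.symm (Pi.single i 1)) = 1 := by
    rw [← map_sum, ← map_sum, Finset.univ_sum_single (fun i : ι => (1 : F i))]
    exact (congrArg θ₀ (map_one q.symm)).trans (θ₀.toRingHom.map_one)
  obtain ⟨i0, hi0⟩ : ∃ i, θ₀ (q.symm (Pi.single i 1)) ≠ 0 := by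
    by_contra! h0
    simp [h0] at hsum
  let ε := q.symm (Pi.single i0 1)
  have hεε : ε * ε = ε := by rw [← map_mul, ← Pi.single_mul, one_mul]
  have hθε : θ₀ ε = 1 := by
    have := congrArg θ₀ hεε
    rw [map_mul] at this
    exact (mul_eq_right₀ hi0).1 this
  obtain ⟨ε', hε'⟩ := exists_tmul_of_isIntegral (K := K) E (z := ε)
    ⟨Polynomial.X * (Polynomial.X - 1), Polynomial.monic_X.mul (Polynomial.monic_X_sub_C 1) , by
      simp [mul_sub, hεε]⟩
  have hφε : φR ε' = 1 := by
    apply IsFractionRing.injective R L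
    rw [map_one, ← hθε, ← hε']
    simp [θ₀, j, κ]
  have hid : ε' * ε' = ε' := tmul_injective (K := K) E (by
    show (ε' * ε') ⊗ₜ[A] (1 : K) = ε' ⊗ₜ[A] (1 : K)
    have := hεε
    rw [← hε', Algebra.TensorProduct.tmul_mul_tmul, one_mul] at this
    exact this)
  let A' := Localization.Away ε'
  let φ' : A' →ₐ[A] R := IsLocalization.liftAlgHom (M := Submonoid.powers ε') (f := φR) (fun y => by
    obtain ⟨_, n, rfl⟩ := y
    simp [hφε])
  have hφ' : ∀ a, φ' (algebraMap E A' a) = φR a := fun a => by
    simp [φ']
  have hsurj : Function.Surjective (algebraMap E A') := fun z => by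
    obtain ⟨⟨a, ⟨_, n, rfl⟩⟩, hz⟩ := IsLocalization.surj (Submonoid.powers ε') z
    have h1 : algebraMap E A' (ε' ^ n) = 1 := by
      have hu : IsUnit (algebraMap E A' ε') := IsLocalization.Away.algebraMap_isUnit ε'
      have h2 : algebraMap E A' ε' = 1 := by
        have := congrArg (algebraMap E A') hid
        rw [map_mul] at this
        exact hu.mul_eq_right.1 this
      rw [map_pow, h2, one_pow]
    rw [h1, mul_one] at hz
    exact ⟨a, hz.symm⟩
  haveI : Module.FaithfullyFlat A A' := by
    refine ⟨fun m hm heq => ?_⟩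
    rw [Ideal.smul_top_eq_map, IsLocalRing.eq_maximalIdeal hm, Submodule.restrictScalars_eq_top_iff] at heq
    have h1 : (maximalIdeal A).map (algebraMap A A') ≤ (maximalIdeal R).comap φ'.toRingHom := by
      rw [Ideal.map_le_iff_le_comap]
      intro a ha
      show φ' (algebraMap A A' a) ∈ maximalIdeal R
      rw [φ'.commutes]
      exact map_nonunit (algebraMap A R) a ha
    have h2 : (1 : A') ∈ (maximalIdeal R).comap φ'.toRingHom := h1 (heq ▸ trivial)
    rw [Ideal.mem_comap, map_one] at h2
    exact (maximalIdeal.isMaximal R).ne_top ((Ideal.eq_top_iff_one _).2 h2)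
  let θ : A' ⊗[A] K →ₐ[A] L := Algebra.TensorProduct.lift (j.comp φ') κ fun _ _ => Commute.all _ _
  let π : E ⊗[A] K →ₐ[A] A' ⊗[A] K := Algebra.TensorProduct.map (IsScalarTower.toAlgHom A E A') (AlgHom.id A K)
  have hπ : Function.Surjective π := TensorProduct.map_surjective hsurj Function.surjective_id
  have hθπ : ∀ y, θ (π y) = θ₀ y := fun y => by
    show (θ.comp π) y = θ₀ y
    congr 1
    ext a <;> simp [θ, π, θ₀, hφ']
  have hπε : π ε = 1 := by
    have h2 : algebraMap E A' ε' = 1 := by
      have := congrArg (algebraMap E A') hid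
      rw [map_mul] at this
      exact (IsLocalization.Away.algebraMap_isUnit ε' : IsUnit (algebraMap E A' ε')).mul_eq_right.1 this
    rw [← hε']
    simp [π, h2, Algebra.TensorProduct.one_def]
  refine ⟨A', inferInstance, inferInstance, inferInstance, inferInstance, θ, ?_, fun r hr => ?_⟩
  · rw [injective_iff_map_eq_zero]
    intro z hz
    obtain ⟨y, rfl⟩ := hπ z
    rw [hθπ] at hz
    have hy : q (ε * y) = 0 := by
      have h1 : q (ε * y) = Pi.single i0 (q y i0) := by
        rw [map_mul, AlgEquiv.apply_symm_apply]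
        funext i
        by_cases h : i = i0
        · subst h; simp
        · simp [h]
      rw [h1]
      by_contra hne
      have hne' : q y i0 ≠ 0 := fun h0 => hne (by rw [h0, Pi.single_zero])
      letI : Field (F i0) := inferInstance
      have h2 : (q y * Pi.single i0 ((q y i0)⁻¹)) = Pi.single i0 1 := by
        funext i
        by_cases h : i = i0
        · subst h; simp [hne']
        · simp [h]
      have h3 := congrArg (fun v => θ₀ (q.symm v)) h2
      simp only [map_mul, AlgEquiv.symm_apply_apply, hz, zero_mul] at h3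
      exact one_ne_zero (h3.trans hθε).symm
    have : π (ε * y) = 0 := by rw [← q.symm_apply_apply (ε * y), hy, map_zero, map_zero]
    rwa [map_mul, hπε, one_mul] at this
  · obtain ⟨a, rfl⟩ := hcatch r hr
    exact ⟨⟨algebraMap E A' a ⊗ₜ 1, by simp [θ, hφ', j, κ]⟩, fun k => by simp [θ, κ]⟩

end Groth.L27.SplitStrict
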