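import Groth.Agent.L27.SplitStrict.Model
import Groth.Agent.L27.HenselPair
import Groth.Prelude.Def_Pi1
import Mathlib.AlgebraicGeometry.Limits
import Mathlib.AlgebraicGeometry.Pullbacks

/-! Covers split by the fraction field of a strict henselization extend. -/

set_option autoImplicit false
set_option linter.style.haveILetI false
set_option backward.isDefEq.respectTransparency.types false

universe u

open AlgebraicGeometry CategoryTheory CategoryTheory.Limits TensorProduct

namespace Groth.L27.SplitStrict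

/-- the algebra form of a split base change -/
theorem exists_algEquiv_pi {K L E : Type u} [Field K] [Field L] [Algebra K L] [CommRing E] [Algebra K E]
    (V : FEt.Cat (Spec (CommRingCat.of K))) (e : V.left ≅ Spec (CommRingCat.of E))
    (he : e.hom ≫ Spec.map (CommRingCat.ofHom (algebraMap K E)) = V.hom)
    (hV : Pi1.IsSplit ((FEt.restrict (Spec.map (CommRingCat.ofHom (algebraMap K L)))).obj V)) :
    ∃ (ι : Type u) (_ : Finite ι), Nonempty (L ⊗[K] E ≃ₐ[L] (ι → L)) := by
  obtain ⟨ι, hι, es, hes⟩ := hV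
  haveI := hι
  refine ⟨ι, hι, ?_⟩
  let g : Spec (CommRingCat.of L) ⟶ Spec (CommRingCat.of K) := Spec.map (CommRingCat.ofHom (algebraMap K L))
  let vh : V.left ⟶ Spec (CommRingCat.of K) := V.hom
  letI : Algebra E (L ⊗[K] E) := Algebra.TensorProduct.rightAlgebra
  have P : IsPullback (Spec.map (CommRingCat.ofHom (algebraMap E (L ⊗[K] E) : E →+* _)) ≫ e.inv)
      (Spec.map (CommRingCat.ofHom (algebraMap L (L ⊗[K] E)))) vh g := by
    refine IsPullback.of_iso (isPullback_SpecMap_of_isPushout _ _ _ _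
      (CommRingCat.isPushout_of_isPushout K L E (L ⊗[K] E))).flip (Iso.refl _) e.symm (Iso.refl _) (Iso.refl _)
      ?_ ?_ ?_ ?_
    · simp
    · simp
    · show Spec.map (CommRingCat.ofHom (algebraMap K E)) ≫ 𝟙 _ = e.inv ≫ vh
      rw [Category.comp_id]
      exact ((congrArg (e.inv ≫ ·) he.symm).trans (e.inv_hom_id_assoc _)).symm
    · show g ≫ 𝟙 _ = 𝟙 _ ≫ g
      rw [Category.comp_id, Category.id_comp]
  let R' : ι → CommRingCat.{u} := fun _ => CommRingCat.of L
  let κ : (∐ fun _ : ι => Spec (CommRingCat.of L)) ≅ Spec (CommRingCat.of (ι → L)) := asIso (sigmaSpec R')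
  let j : Spec (CommRingCat.of (L ⊗[K] E)) ≅ Spec (CommRingCat.of (ι → L)) := P.isoPullback ≪≫ es ≪≫ κ
  have hκ : κ.hom ≫ Spec.map (CommRingCat.ofHom (algebraMap L (ι → L))) = es.inv ≫ pullback.snd vh g := by
    refine Sigma.hom_ext _ _ fun i => ?_
    have h1 : Sigma.ι (fun _ : ι => Spec (CommRingCat.of L)) i ≫ κ.hom =
        Spec.map (CommRingCat.ofHom (Pi.evalRingHom (fun _ : ι => L) i)) := ι_sigmaSpec R' i
    rw [← Category.assoc, h1, ← Spec.map_comp]
    exact (Spec.map_id _).trans (hes i).symm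
  have hj : j.hom ≫ Spec.map (CommRingCat.ofHom (algebraMap L (ι → L))) =
      Spec.map (CommRingCat.ofHom (algebraMap L (L ⊗[K] E))) := by
    simp only [j, Iso.trans_hom, Category.assoc, hκ]
    exact (congrArg (P.isoPullback.hom ≫ ·) (es.hom_inv_id_assoc _)).trans P.isoPullback_hom_snd
  let r : CommRingCat.of (ι → L) ≅ CommRingCat.of (L ⊗[K] E) :=
    ⟨Spec.preimage j.hom, Spec.preimage j.inv, Spec.map_injective (by simp [Spec.map_preimage]),
      Spec.map_injective (by simp [Spec.map_preimage])⟩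
  have hr : CommRingCat.ofHom (algebraMap L (ι → L)) ≫ r.hom = CommRingCat.ofHom (algebraMap L (L ⊗[K] E)) :=
    Spec.map_injective (by simp [r, hj])
  exact ⟨(AlgEquiv.ofRingEquiv (f := r.commRingCatIsoToRingEquiv) fun l => congrArg (fun t => t.hom l) hr).symm⟩

theorem exists_cover (A : Type u) [CommRing A] [IsDomain A] [IsLocalRing A] [IsIntegrallyClosed A] (R : Type u)
    [CommRing R] [IsLocalRing R] [Algebra A R] [IsLocalHom (algebraMap A R)] [Hensel.IsStrictHenselization A R]
    (K L : Type u) [Field K] [Field L] [Algebra A K] [IsFractionRing A K] [Algebra R L] [IsFractionRing R L]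
    [Algebra K L] [Algebra A L] [IsScalarTower A K L] [IsScalarTower A R L]
    (V : FEt.Cat (Spec (CommRingCat.of K)))
    (hV : Pi1.IsSplit ((FEt.restrict (Spec.map (CommRingCat.ofHom (algebraMap K L)))).obj V)) :
    ∃ Y : FEt.Cat (Spec (CommRingCat.of A)),
      Nonempty ((FEt.restrict (Spec.map (CommRingCat.ofHom (algebraMap A K)))).obj Y ≅ V) := by
  obtain ⟨E, _, _, _, _, e, he⟩ := HenselPair.exists_algebra V
  obtain ⟨ι, _, ⟨Φ⟩⟩ := exists_algEquiv_pi V e he hV
  letI : Algebra A E := Algebra.compHom E (algebraMap A K)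
  haveI : IsScalarTower A K E := IsScalarTower.of_algebraMap_eq fun _ => rfl
  obtain ⟨hEt, hFin⟩ := finite_etale_integralClosure (A := A) (K := K) R L Φ
  let B := integralClosure A E
  haveI : Algebra.IsPushout A K B E := isPushout_integralClosure E
  let b : Spec (CommRingCat.of B) ⟶ Spec (CommRingCat.of A) := Spec.map (CommRingCat.ofHom (algebraMap A B))
  let g : Spec (CommRingCat.of K) ⟶ Spec (CommRingCat.of A) := Spec.map (CommRingCat.ofHom (algebraMap A K))
  have hb : FEt.prop b := ⟨(IsFinite.SpecMap_iff _).mpr (RingHom.finite_algebraMap.mpr hFin),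
    (HasRingHomProperty.Spec_iff (P := @AlgebraicGeometry.Etale)).mpr (RingHom.etale_algebraMap.mpr hEt)⟩
  let Y : FEt.Cat (Spec (CommRingCat.of A)) := MorphismProperty.Over.mk ⊤ b hb
  have P : IsPullback (Spec.map (CommRingCat.ofHom (algebraMap B E)))
      (Spec.map (CommRingCat.ofHom (algebraMap K E))) b g :=
    (isPullback_SpecMap_of_isPushout _ _ _ _ (CommRingCat.isPushout_of_isPushout A K B E)).flip
  refine ⟨Y, ⟨MorphismProperty.Over.isoMk (P.isoPullback.symm ≪≫ e.symm) ?_⟩⟩
  show (P.isoPullback.inv ≫ e.inv) ≫ V.hom = pullback.snd b g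
  rw [← he]
  exact (Category.assoc _ _ _).trans ((congrArg (P.isoPullback.inv ≫ ·) (e.inv_hom_id_assoc _)).trans
    P.isoPullback_inv_snd)

end Groth.L27.SplitStrict
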