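import Groth.Agent.L27.SplitStrict.Algebra
import Mathlib.RingTheory.Localization.BaseChange
import Mathlib.RingTheory.Algebraic.Basic
import Mathlib.LinearAlgebra.Dimension.Constructions
import Mathlib.RingTheory.Unramified.Field

/-! The integral closure in an algebra split by a strict henselization is finite etale. -/

set_option autoImplicit false
set_option linter.style.haveILetI false
set_option backward.isDefEq.respectTransparency.types false

universe u

open TensorProduct IsLocalRing

namespace Groth.L27.SplitStrict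

/-- over an etale algebra on which `E` splits, the integral closure splits -/
theorem finite_etale_of_split {A : Type u} [CommRing A] [IsDomain A] [IsLocalRing A] [IsIntegrallyClosed A]
    {K : Type u} [Field K] [Algebra A K] [IsFractionRing A K] (A' : Type u) [CommRing A'] [Algebra A A']
    [Algebra.Etale A A'] [Module.FaithfullyFlat A A'] {E : Type u} [CommRing E] [Algebra A E] {ι : Type u}
    [Finite ι] (σ : A' ⊗[A] E ≃ₐ[A'] (ι → A' ⊗[A] K)) :
    Algebra.Etale A (integralClosure A E) ∧ Module.Finite A (integralClosure A E) := by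
  cases nonempty_fintype ι
  haveI : Algebra.Smooth A A' := inferInstance
  let inc : (ι → A') →ₐ[A'] (ι → A' ⊗[A] K) :=
    Pi.algHom A' _ fun i => (Algebra.ofId A' (A' ⊗[A] K)).comp (Pi.evalAlgHom A' (fun _ : ι => A') i)
  let τ : (ι → A') →ₐ[A'] integralClosure A' (A' ⊗[A] E) := (σ.symm.toAlgHom.comp inc).codRestrict _ fun x =>
    ((Algebra.IsIntegral.isIntegral (R := A') x).map inc).map σ.symm.toAlgHom
  have hτ : Function.Bijective τ := by
    refine ⟨fun x y h => ?_, fun z => ?_⟩
    · have h1 : inc x = inc y := σ.symm.injective (congrArg Subtype.val h)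
      exact funext fun i => tmul_injective (K := K) A' (congrFun h1 i)
    · have h1 : ∀ i, ∃ a : A', a ⊗ₜ[A] (1 : K) = σ z.1 i := fun i =>
        exists_tmul_of_isIntegral A' ((z.2.map σ.toAlgHom).map (Pi.evalAlgHom A' (fun _ : ι => A' ⊗[A] K) i))
      choose a ha using h1
      refine ⟨a, Subtype.ext ?_⟩
      have h2 : inc a = σ z.1 := funext fun i => ha i
      show σ.symm (inc a) = z.1
      rw [h2, AlgEquiv.symm_apply_apply]
  have e : (ι → A') ≃ₐ[A'] A' ⊗[A] integralClosure A E :=
    (AlgEquiv.ofBijective τ hτ).trans (AlgEquiv.ofBijective _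
      (TensorProduct.toIntegralClosure_bijective_of_smooth (R := A) (S := A') (B := E))).symm
  haveI : Algebra.Etale A' (A' ⊗[A] integralClosure A E) := Algebra.Etale.of_equiv e
  haveI : Module.Finite A' (A' ⊗[A] integralClosure A E) := Module.Finite.equiv e.toLinearEquiv
  exact ⟨Algebra.Etale.of_etale_tensorProduct_of_faithfullyFlat A',
    Module.Finite.of_finite_tensorProduct_of_faithfullyFlat A'⟩

theorem isPushout_integralClosure {A : Type u} [CommRing A] [IsDomain A] {K : Type u} [Field K] [Algebra A K]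
    [IsFractionRing A K] (E : Type u) [CommRing E] [Algebra A E] [Algebra K E] [IsScalarTower A K E]
    [Algebra.IsIntegral K E] : Algebra.IsPushout A K (integralClosure A E) E := by
  haveI : IsLocalization (Algebra.algebraMapSubmonoid (integralClosure A E) (nonZeroDivisors A)) E := by
    refine ⟨?_, fun z => ?_, fun {x y} h => ⟨1, ?_⟩⟩
    · rintro ⟨_, a, ha, rfl⟩
      show IsUnit (algebraMap A E a)
      rw [IsScalarTower.algebraMap_apply A K E]
      exact (IsLocalization.map_units K (⟨a, ha⟩ : nonZeroDivisors A)).map _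
    · obtain ⟨m, hm⟩ := IsIntegral.exists_multiple_integral_of_isLocalization (nonZeroDivisors A) z
        (Algebra.IsIntegral.isIntegral (R := K) z)
      refine ⟨⟨⟨m • z, hm⟩, ⟨_, m.1, m.2, rfl⟩⟩, ?_⟩
      show z * algebraMap A E m.1 = m • z
      rw [Submonoid.smul_def, Algebra.smul_def, mul_comm]
    · have : x = y := Subtype.ext h
      rw [this]
  exact (Algebra.isPushout_of_isLocalization (nonZeroDivisors A) K (integralClosure A E) E).symm

/-- algebras split over the fraction field of a strict henselization -/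
theorem finite_etale_integralClosure {A : Type u} [CommRing A] [IsDomain A] [IsLocalRing A] [IsIntegrallyClosed A]
    {K : Type u} [Field K] [Algebra A K] [IsFractionRing A K]
    (R L : Type u) [CommRing R] [IsLocalRing R] [Algebra A R] [IsLocalHom (algebraMap A R)]
    [Hensel.IsStrictHenselization A R] [Field L] [Algebra R L] [IsFractionRing R L] [Algebra K L] [Algebra A L]
    [IsScalarTower A K L] [IsScalarTower A R L]
    {E : Type u} [CommRing E] [Algebra A E] [Algebra K E] [IsScalarTower A K E] [Module.Finite K E]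
    {ι : Type u} [Finite ι] (Φ : L ⊗[K] E ≃ₐ[L] (ι → L)) :
    Algebra.Etale A (integralClosure A E) ∧ Module.Finite A (integralClosure A E) := by
  classical
  cases nonempty_fintype ι
  let χ : ι → E →ₐ[K] L := fun i => ((Pi.evalAlgHom K (fun _ : ι => L) i).comp
    (Φ.toAlgHom.restrictScalars K)).comp Algebra.TensorProduct.includeRight
  -- numerators and denominators of the coordinates
  let b := Module.finBasis K E
  have hfrac : ∀ l : L, ∃ r : R × R, algebraMap R L r.1 / algebraMap R L r.2 = l := fun l => by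
    obtain ⟨x, y, -, h⟩ := IsFractionRing.div_surjective (A := R) l
    exact ⟨(x, y), h⟩
  choose r hr using hfrac
  let s : Finset R := Finset.univ.biUnion fun ji : Fin (Module.finrank K E) × ι =>
    {(r (χ ji.2 (b ji.1))).1, (r (χ ji.2 (b ji.1))).2}
  obtain ⟨A', _, _, _, _, θ, hθ, hs⟩ := exists_stage (A := A) (K := K) R L (insert 1 s)
  have hk : ∀ k : K, θ (1 ⊗ₜ k) = algebraMap K L k := (hs 1 (Finset.mem_insert_self _ _)).2
  haveI : Algebra.Etale K (K ⊗[A] A') := inferInstance
  haveI : Module.Finite K (K ⊗[A] A') := Algebra.FormallyUnramified.finite_of_free K _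
  let c : (K ⊗[A] A') ≃ₐ[A] A' ⊗[A] K := Algebra.TensorProduct.comm A K A'
  have hc : ∀ k : K, c (k ⊗ₜ (1 : A')) = (1 : A') ⊗ₜ k := fun k => rfl
  let θK : K ⊗[A] A' →ₐ[K] L := { (θ.comp c.toAlgHom) with
    commutes' := fun k => hk k }
  have hθK : Function.Injective θK := hθ.comp c.injective
  let M : Subalgebra K L := θK.range
  haveI : Module.Finite K M := Module.Finite.of_surjective θK.rangeRestrict.toLinearMap θK.rangeRestrict_surjective
  have hinv : ∀ x ∈ M, x⁻¹ ∈ M := fun x hx =>
    M.inv_mem_of_algebraic (x := ⟨x, hx⟩)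
      (IsAlgebraic.algebraMap (A := L) (a := (⟨x, hx⟩ : M)) (Algebra.IsAlgebraic.isAlgebraic (⟨x, hx⟩ : M)))
  have hsM : ∀ x ∈ s, algebraMap R L x ∈ M := fun x hx => by
    obtain ⟨y, hy⟩ := (hs x (Finset.mem_insert_of_mem hx)).1
    exact ⟨c.symm y, (congrArg θ (c.apply_symm_apply y)).trans hy⟩
  have hχ : ∀ i e, χ i e ∈ M := fun i e => by
    rw [← b.sum_repr e, map_sum]
    refine sum_mem fun j _ => ?_
    rw [map_smul]
    refine M.smul_mem ?_ _
    rw [← hr (χ i (b j)), div_eq_mul_inv]
    have hmem : ∀ x, x ∈ ({(r (χ i (b j))).1, (r (χ i (b j))).2} : Finset R) → x ∈ s := fun x hx =>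
      Finset.mem_biUnion.2 ⟨(j, i), Finset.mem_univ _, hx⟩
    exact mul_mem (hsM _ (hmem _ (by simp))) (hinv _ (hsM _ (hmem _ (by simp))))
  let ψ : ι → E →ₐ[K] K ⊗[A] A' := fun i =>
    (AlgEquiv.ofInjective θK hθK).symm.toAlgHom.comp ((χ i).codRestrict M (hχ i))
  have hψ : ∀ i e, θK (ψ i e) = χ i e := fun i e =>
    congrArg Subtype.val ((AlgEquiv.ofInjective θK hθK).apply_symm_apply ⟨χ i e, hχ i e⟩)
  -- the split form over the generic fibre of the stage
  let Ψ : (K ⊗[A] A') ⊗[K] E →ₐ[K] (ι → K ⊗[A] A') :=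
    Algebra.TensorProduct.lift (Pi.algHom K _ fun _ => AlgHom.id K _) (Pi.algHom K _ ψ) fun _ _ => Commute.all _ _
  let θE : (K ⊗[A] A') ⊗[K] E →ₐ[K] L ⊗[K] E := Algebra.TensorProduct.map θK (AlgHom.id K E)
  have hθE : Function.Injective θE :=
    Module.Flat.rTensor_preserves_injective_linearMap (M := E) θK.toLinearMap hθK
  have hcomm : ∀ w i, θK (Ψ w i) = Φ (θE w) i := fun w i => by
    show ((θK.comp (Pi.evalAlgHom K (fun _ : ι => K ⊗[A] A') i)).comp Ψ) w =
      (((Pi.evalAlgHom K (fun _ : ι => L) i).comp (Φ.toAlgHom.restrictScalars K)).comp θE) w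
    congr 1
    refine Algebra.TensorProduct.ext ?_ ?_
    · refine AlgHom.ext fun f => ?_
      have h1 := congrFun (Φ.commutes (θK f)) i
      simp [Ψ, θE]
      exact h1.symm
    · refine AlgHom.ext fun e => ?_
      simp [Ψ, θE, hψ, χ]
  have hΨi : Function.Injective Ψ := fun w w' h =>
    hθE (Φ.injective (funext fun i => by rw [← hcomm, ← hcomm, h]))
  have hn : Module.finrank K E = Fintype.card ι := by
    rw [← Module.finrank_baseChange (R := L), Φ.toLinearEquiv.finrank_eq, Module.finrank_pi]
  have hΨ : Function.Bijective Ψ := ⟨hΨi, (LinearMap.injective_iff_surjective_of_finrank_eq_finrank (f := Ψ.toLinearMap) (by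
    rw [Module.finrank_tensorProduct, Module.finrank_pi_fintype, Finset.sum_const, Finset.card_univ, smul_eq_mul,
      hn, mul_comm])).1 hΨi⟩
  -- transfer to A' ⊗ E
  let σ₀ : A' ⊗[A] E →ₐ[A'] (ι → A' ⊗[A] K) :=
    Algebra.TensorProduct.lift (Algebra.ofId A' _) (Pi.algHom A _ fun i => c.toAlgHom.comp ((ψ i).restrictScalars A))
      fun _ _ => Commute.all _ _
  let ρ : A' ⊗[A] E ≃ₐ[A] (K ⊗[A] A') ⊗[K] E :=
    (Algebra.TensorProduct.comm A A' E).trans <|
      (((Algebra.TensorProduct.cancelBaseChange A K E E A').restrictScalars A).symm.trans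
        ((Algebra.TensorProduct.comm K E (K ⊗[A] A')).restrictScalars A))
  have hσ : ∀ w i, σ₀ w i = c (Ψ (ρ w) i) := fun w i => by
    show ((Pi.evalAlgHom A (fun _ : ι => A' ⊗[A] K) i).comp (σ₀.restrictScalars A)) w =
      (c.toAlgHom.comp (((Pi.evalAlgHom A (fun _ : ι => K ⊗[A] A') i).comp (Ψ.restrictScalars A)).comp ρ.toAlgHom)) w
    congr 1
    refine Algebra.TensorProduct.ext' fun a e => ?_
    have hρ : ρ (a ⊗ₜ e) = ((1 : K) ⊗ₜ[A] a) ⊗ₜ[K] e := by
      simp [ρ]
    simp [σ₀, Ψ, hρ, Algebra.TensorProduct.one_def]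
    simp [c, ← Algebra.TensorProduct.one_def]
  have hbij : Function.Bijective σ₀ := by
    have h1 : (σ₀ : A' ⊗[A] E → ι → A' ⊗[A] K) = (Equiv.piCongrRight fun _ => c.toEquiv) ∘ Ψ ∘ ρ :=
      funext fun w => funext (hσ w)
    rw [h1]
    exact (Equiv.bijective _).comp (hΨ.comp ρ.bijective)
  exact finite_etale_of_split A' (AlgEquiv.ofBijective σ₀ hbij)

end Groth.L27.SplitStrict
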